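/-
helper18: project STEINBERG (helper35), module P2-[CARTNEG]: `A_{p_j,-s} = -A_{p_j,s}` in terms of the datum.
-/
import Cfsg.Agent.S1032

set_option autoImplicit false

namespace Cfsg.Agent.Lib.Helper18.St

open Cfsg.Lie

theorem cartan_neg {D : ChevalleyDatum}
    (hD : D ∈ [chevG2, chevB2, chevD4, chevF4, chevE6, chevE7, chevE8]) (j : ℕ) (hj : j < D.rank)
    (s : ℕ) (hs : s < D.nroots) : D.cartan j (D.neg s) = - D.cartan j s :=
  (Cfsg.Agent.S1032.cartan_facts D hD j hj).1 s hs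

end Cfsg.Agent.Lib.Helper18.St
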