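/-
helper18: project STEINBERG (helper35), modules ST-[GACT] / P2-[GACT2] (matrix side):
`n_p(t) x_s(u) = x_{w_p s}(c u) n_p(t)` with `c = η t^{A(p, w s)}`, and the constant for `-s` is `c⁻¹`.
-/
import Cfsg.Agent.Lib.Helper35.StDefs2
import Cfsg.Agent.Lib.Helper18.St.CartNeg
import Cfsg.Agent.Lib.Helper18.HMul

set_option autoImplicit false

namespace Cfsg.Agent.Lib.Helper18.St

open Cfsg.Lie Cfsg.Agent.Lib.Helper35.St Cfsg.Agent.Lib.Helper18

universe u

variable {D : ChevalleyDatum} {K : Type u} [Field K]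

/-- The explicit form: `n_p(t) x_s(u) = x_{w s}(η t^{A(p, w s)} u) n_p(t)`. -/
theorem nMat_mul_x_explicit (hD : D ∈ [chevG2, chevB2, chevD4, chevF4, chevE6, chevE7, chevE8])
    (C : ChevData.{u} D) (i s : ℕ) (hi : i < D.rank) (hs : s < D.nroots) (t : K) (ht : t ≠ 0) (u : K) :
    D.nMat K (D.simple i) t * D.x K s u
      = D.x K (C.w i s) (t ^ (D.cartan i (C.w i s)) * (C.eta i s : K) * u) * D.nMat K (D.simple i) t := by
  have hp := C.simple_lt i hi
  rw [nMat_eq_hMat_mul hD (D.simple i) hp t, mul_assoc, C.n_mul_x i s hi hs u, ← mul_assoc,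
    Cfsg.Agent.S1032.result D hD i (C.w i s) hi (C.w_lt i s hi hs) t ht, mul_assoc, mul_assoc]

theorem gAct2_of_mem (hD : D ∈ [chevG2, chevB2, chevD4, chevF4, chevE6, chevE7, chevE8]) : GAct2 D K := by
  obtain ⟨C⟩ := nonempty_chevData.{u} D hD
  intro i hi s hs t ht
  have hn := C.nroots_eq
  have hl := C.rank_eq
  have hnegs : D.neg s < D.nroots := by rw [C.neg_eq s hs]; unfold FastDatum.neg; omega
  have hwneg : C.w i (D.neg s) = D.neg (C.w i s) := by
    rw [C.neg_eq s hs, C.neg_eq _ (C.w_lt i s hi hs)]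
    exact C.spec.refl_neg i (hl ▸ hi) s (hn ▸ hs)
  have hηneg : C.eta i (D.neg s) = C.eta i s := by
    rw [C.neg_eq s hs]
    exact C.spec.sign_neg i (hl ▸ hi) s (hn ▸ hs)
  refine ⟨t ^ (D.cartan i (C.w i s)) * (C.eta i s : K),
    mul_ne_zero (zpow_ne_zero _ ht) (C.eta_ne_zero i s), ?_, ?_⟩
  · intro u
    rw [C.w_eq_reflectRoot i s hi hs]
    exact nMat_mul_x_explicit hD C i s hi hs t ht u
  · intro u
    rw [C.w_eq_reflectRoot i s hi hs]
    have h := nMat_mul_x_explicit hD C i (D.neg s) hi hnegs t ht u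
    rw [hwneg, hηneg, cartan_neg hD i hi _ (C.w_lt i s hi hs), zpow_neg] at h
    have h2 : ((C.eta i s : ℤ) : K)⁻¹ = (C.eta i s : K) :=
      inv_eq_of_mul_eq_one_right (C.eta_mul_self (F := K) i s)
    rw [h, mul_inv, h2]

theorem gAct_of_mem (hD : D ∈ [chevG2, chevB2, chevD4, chevF4, chevE6, chevE7, chevE8]) : GAct D K := by
  intro i hi s hs t ht
  obtain ⟨c, hc, h1, -⟩ := gAct2_of_mem (K := K) hD i hi s hs t ht
  exact ⟨c, hc, h1⟩

end Cfsg.Agent.Lib.Helper18.St
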