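/-
helper18: project STEINBERG (helper35), module ST-[GACT], second statement: the unit with matrix `n_p(t)` is monomial.
-/
import Cfsg.Agent.Lib.Helper18.St.GAct2

set_option autoImplicit false

namespace Cfsg.Agent.Lib.Helper18.St

open Cfsg.Lie Cfsg.Agent.Lib.Helper35.St Cfsg.Agent.Lib.Helper18

universe u

variable {D : ChevalleyDatum} {K : Type u} [Field K]

/-- For any root `r`: the unit with matrix `n_r(t)`, `t ≠ 0`, lies in `N`. -/
theorem nMat_mem_monomial_root (hD : D ∈ [chevG2, chevB2, chevD4, chevF4, chevE6, chevE7, chevE8]) (r : ℕ)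
    (hr : r < D.nroots) (t : K) (ht : t ≠ 0) (g : GL D.Idx K)
    (hg : (g : Matrix D.Idx D.Idx K) = D.nMat K r t) : g ∈ D.monomialSubgroup K := by
  have h1 : g * (nG hD r hr)⁻¹ ∈ D.diagonalSubgroup K := by
    apply Subgroup.subset_closure
    refine ⟨r, t, hr, ht, ?_⟩
    rw [Units.val_mul, coe_nG_inv, hg, hMat_eq_nMat_mul']
  have h2 : g = g * (nG hD r hr)⁻¹ * nG hD r hr := by group
  rw [h2]
  exact (D.monomialSubgroup K).mul_mem (Subgroup.mem_sup_left h1) (nG_mem_monomial hD r hr)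

theorem nMat_mem_monomial (hD : D ∈ [chevG2, chevB2, chevD4, chevF4, chevE6, chevE7, chevE8]) (i : ℕ)
    (hi : i < D.rank) (t : K) (ht : t ≠ 0) (g : GL D.Idx K)
    (hg : (g : Matrix D.Idx D.Idx K) = D.nMat K (D.simple i) t) : g ∈ D.monomialSubgroup K := by
  obtain ⟨C⟩ := nonempty_chevData.{u} D hD
  exact nMat_mem_monomial_root hD _ (C.simple_lt i hi) t ht g hg

end Cfsg.Agent.Lib.Helper18.St
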