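/-
helper18: project STEINBERG (helper35), module P2-[ZCENTER]: the Chevalley group `D.group K` has trivial centre
(a central element normalises `B`, so lies in `B` (S0312), hence in the core of `B`, which is trivial (S1051)).
-/
import Cfsg.Agent.S0312
import Cfsg.Agent.S1042
import Cfsg.Agent.S1051

set_option autoImplicit false

namespace Cfsg.Agent.Lib.Helper18.St

open Cfsg.Lie Cfsg.Agent.Lib.Helper18

universe u

variable {D : ChevalleyDatum} {K : Type u} [Field K]

theorem center_group_eq_bot (hD : D ∈ [chevG2, chevB2, chevD4, chevF4, chevE6, chevE7, chevE8]) :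
    Subgroup.center ↥(D.group K) = ⊥ := by
  obtain ⟨C⟩ := nonempty_chevData.{u} D hD
  obtain ⟨P, hPB, -, -⟩ := Cfsg.Agent.S1042.exists_bnPair (F := K) D hD C
  have hnorm : Subgroup.normalizer (P.B : Set ↥(D.group K)) = P.B := by
    have h := Cfsg.Agent.S0312.result P (J := ∅) (Set.empty_subset _)
    have e : P.parabolic ∅ = P.B := by
      unfold Cfsg.BNPair.parabolic
      rw [Subgroup.closure_empty, sup_bot_eq]
    rw [e] at h
    exact h
  rw [eq_bot_iff]
  intro z hz
  have hcomm : ∀ g : ↥(D.group K), g * z * g⁻¹ = z := by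
    intro g
    rw [Subgroup.mem_center_iff] at hz
    rw [hz g, mul_inv_cancel_right]
  have hzB : z ∈ P.B := by
    rw [← hnorm, Subgroup.mem_normalizer_iff]
    intro h
    have e : z * h * z⁻¹ = h := by
      rw [Subgroup.mem_center_iff] at hz
      rw [← hz h, mul_inv_cancel_right]
    rw [e]
  have hcore : z ∈ P.B.normalCore := by
    rw [Subgroup.normalCore]
    intro g
    rw [hcomm g]
    exact hzB
  rw [hPB, Cfsg.Agent.S1051.result D hD] at hcore
  exact hcore

end Cfsg.Agent.Lib.Helper18.St
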